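import Cfsg.Agent.K18.Mod
import Cfsg.Agent.K16.Ph
import Cfsg.Agent.Z12.Def
import Cfsg.Agent.A16.Loc

/-! S1918, second half of case `γ`: definitions.  Blocks are numbered `0,…,3`.  `J = nu X8`, `W = nw X8`,
`D = J W ≅ D₈⁴`, `Z = ⟨z₀,…,z₃⟩ = J ∩ W` (`nu v = nw v` for `v ∈ ZL`).  In `A₁₈` the basis vectors of `W` are
the products `(pair i)(pair 8)` of two of nine transpositions: `W` is the even part of `𝔽₂⁹`. -/

set_option autoImplicit false
set_option maxRecDepth 100000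
set_option synthInstance.maxSize 100000
set_option synthInstance.maxHeartbeats 0
set_option linter.unusedSectionVars false

noncomputable section

namespace Cfsg.Agent.K18

open Subgroup Cfsg.Agent.X32 Cfsg.Agent.X32.TG Cfsg.Agent.Std.PcT Cfsg.Agent.LES Cfsg.Agent.SylT
  Cfsg.Agent.RuT Cfsg.Agent.PLocal Cfsg.Agent.PLocal.Amb Cfsg.Agent.Gold
open Cfsg.Agent.Y16 (BV x8_ind x8_ext Z4 ZL)
open Cfsg.Agent.AltC (Fx)

/-- the transpositions `t₀, …, t₃` -/
abbrev T4 : List PQ := es [64, 65, 68, 70]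

/-- the vectors which are odd on each of the four pairs of coordinates -/
abbrev OL : List X8 := es [85, 86, 89, 90, 101, 102, 105, 106, 149, 150, 153, 154, 165, 166, 169, 170]

/-- the block permutation `(1 3)` -/
abbrev tauL : List X8 := es [1, 2, 64, 128, 16, 32, 4, 8]

def dtN (a b : ℕ) : ℕ := Nat.land (Nat.shiftRight
  (nat_lit 0x6996966996696996966969966996966996696996699696696996966996696996) (Nat.land a b)) (nat_lit 1)

/-- the standard scalar product (`0` or `1`) -/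
def dt (f v : X8) : ℕ := dtN f.v v.v

instance nvDt (f v : X8) {m n : ℕ} [EV f m] [EV v n] : Y16.NV (dt f v) (dtN m n) :=
  ⟨by rw [← EV.h (a := f), ← EV.h (a := v)]; rfl⟩

def tvN (c f v : ℕ) : ℕ := Comp.force v fun v => Nat.xor v (Nat.mul (dtN f v) c)

theorem tvN_lt {c f v : ℕ} (hc : c < 256) (hv : v < 256) : tvN c f v < 256 := by
  have h : dtN f v ≤ 1 := Nat.and_le_right
  rw [tvN, Comp.force_eq]
  exact Nat.xor_lt_two_pow (n := 8) hv (lt_of_le_of_lt (Nat.mul_le_mul_right c h) (by simpa using hc))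

/-- the transvection `v ↦ v + (f · v) c` -/
def tvv (c f v : X8) : X8 := ⟨tvN c.v f.v v.v, tvN_lt c.lt v.lt⟩

instance evTvv (c f v : X8) {l m n : ℕ} [EV c l] [EV f m] [EV v n] : EV (tvv c f v) (tvN l m n) :=
  ⟨by rw [← EV.h (a := c), ← EV.h (a := f), ← EV.h (a := v)]; rfl⟩

def clN (n : ℕ) : ℕ := Nat.land (Nat.shiftRight (nat_lit 0x4443433343333332433333323332322243333332333232223332322232222221433333323332322233323222322222213332322232222221322222212221211143333332333232223332322232222221333232223222222132222221222121113332322232222221322222212221211132222221222121112221211121111110)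
  (Nat.shiftLeft n (nat_lit 2))) (nat_lit 15)

/-- half of the weight in the even part of `𝔽₂⁹`, `= tw (nw v)` -/
def cl (v : X8) : ℕ := clN v.v

instance nvCl (v : X8) {n : ℕ} [EV v n] : Y16.NV (cl v) (clN n) := ⟨by rw [← EV.h (a := v)]; rfl⟩

theorem tw_nw : ∀ v : X8, tw (nw v) = cl v := BD.of (by decide +kernel)

theorem nu_nw : ∀ v ∈ ZL, nu v = nw v := BD.of (by decide +kernel)

/-- `k` is the transvection with centre `c` and axis `f` -/
def IsTv (k : MulAut X8) (c f : X8) : Prop := c ≠ 1 ∧ f ≠ 1 ∧ dt f c = 0 ∧ ∀ v, k v = tvv c f v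

/-- `Γ` contains the transvection -/
def TS (Γ : Subgroup (MulAut X8)) (c f : X8) : Prop := ∃ k ∈ Γ, IsTv k c f

/-- `Γ` permutes the listed vectors -/
def Prm (Γ : Subgroup (MulAut X8)) (L : List X8) : Prop := ∀ k ∈ Γ, ∀ c ∈ L, k c ∈ L

/-- the vectors of weight two -/
def R28 : List ℕ := [3, 5, 9, 17, 33, 65, 129, 6, 10, 18, 34, 66, 130, 12, 20, 36, 68, 132, 24, 40, 72, 136, 48, 80,
  144, 96, 160, 192]
def R8 : List ℕ := [1, 2, 4, 8, 16, 32, 64, 128]
def R8' : List ℕ := [254, 253, 251, 247, 239, 223, 191, 127]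

/-- the centres in the cases without a transposition between different pairs -/
def LA (m : ℕ) : List X8 := es ([3, 12, 48, 192] ++ [[], R8].getD m R8')

/-- the centres in the cases `S₈`, `S₉`, and the twisted `S₉` -/
def LB (m : ℕ) : List X8 := es (R28 ++ [[], R8].getD m R8')

/-- the axis belonging to a centre in `LB m` -/
def ax (c : X8) : X8 := tvv (e 255) (e 255) c

variable {G : Type*} [Group G]

/-- the automizer -/
def AutG (ν : X8 →* G) : Subgroup (MulAut X8) where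
  carrier := {k | ∃ g, ∀ v, Cg ν g v (k v)}
  one_mem' := ⟨1, fun _ => Cg.rfl⟩
  mul_mem' := fun ⟨g, a⟩ ⟨h, b⟩ => ⟨g * h, fun v => (b v).trans (a _)⟩
  inv_mem' := fun {k} ⟨g, a⟩ => ⟨g⁻¹, fun v => by simpa using (a (k⁻¹ v)).symm⟩

abbrev JJ (φ : M →* G) : Subgroup G := (φ.comp nu).range
abbrev WW (φ : M →* G) : Subgroup G := (φ.comp nw).range

/-- an element of order three on `⟨nu 1, nu 2⟩` centralising the other blocks and the swap `(2 3)` -/
def Rho (φ : M →* G) : Prop := ∃ g, Cg φ g (e 1) (e 2) ∧ Cg φ g (e 2) (e 3) ∧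
  ∀ x ∈ (es [4, 8, 16, 32, 64, 128, 16640, 17408, 17920, 4096] : List M), Cg φ g x x

/-- the block permutation `(1 3)` on the generators of `D` -/
def Tau (φ : M →* G) : Prop := ∃ g, List.Forall₂ (Cg φ g)
  (es [1, 2, 4, 8, 16, 32, 64, 128, 16384, 16640, 17408, 17920]) (es [1, 2, 64, 128, 16, 32, 4, 8, 16384, 17920, 17408, 16640])

/-- the element `x₂e₃` acting on `A* = ⟨z, x₄e₁, x₃e₁, x₂e₁⟩ ≤ W` -/
def G0 (φ : M →* G) : Prop := ∃ g, ∃ w ∈ OL, List.Forall₂ (Cg (φ.comp nw) g)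
  [e 255, e 240, w, e 204] [e 255, e 240, w, e 204 * w]

/-- `W` is weakly closed -/
def Wc (φ : M →* G) : Prop := ∀ g, cj(g, WW φ) ≤ φ.range → g ∈ 𝐍[WW φ]

structure Z1 (φ : M →* G) : Prop where
  inj : Function.Injective φ
  sylN : IsSyl 2 φ.range 𝐍[JJ φ]
  rho : Rho φ
  tau : Tau φ
  g0 : G0 φ

structure Su (φ : M →* G) : Prop where
  inj : Function.Injective φ
  syl : IsSyl 2 φ.range ⊤

/-- the normaliser of `W` induces `S₉` -/
structure Z3 (φ : M →* G) : Prop extends Su φ where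
  wc : Wc φ
  rho : Rho φ
  tv9 : ∀ c ∈ LB 1, TS (AutG (φ.comp nw)) c (ax c)
  inv : ∀ g v w, Cg (φ.comp nw) g v w → cl v = cl w

/-- the fusion pattern of `A₁₈` -/
structure Z18 (φ : M →* G) : Prop extends Z3 φ where
  sep : ∀ g x y, x * x = 1 → Cg φ g x y → tw x = tw y

/-! ### The coordinate free setting -/

abbrev V9 := Fin 9 → ZMod 2

def Ev (f : V9) : Prop := ∑ i, f i = 0
def wt (f : V9) : ℕ := (Finset.univ.filter fun i => f i ≠ 0).card
def rt (i j : Fin 9) : V9 := Pi.single i 1 + Pi.single j 1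
def ind (R : Finset (Fin 9)) : V9 := fun i => if i ∈ R then 1 else 0

instance : DecidablePred Ev := fun _ => inferInstanceAs (Decidable (_ = _))

/-- the first eight coordinates -/
def cv (f : V9) : X8 := e ((f 0).val + 2 * (f 1).val + 4 * (f 2).val + 8 * (f 3).val + 16 * (f 4).val + 32 * (f 5).val +
  64 * (f 6).val + 128 * (f 7).val)

def w9 (φ : M →* G) (f : V9) : G := φ (nw (cv f))

/-- the even vectors with support in `R` -/
def EE (w : V9 → G) (R : Finset (Fin 9)) : Subgroup G := closure {g | ∃ f, Ev f ∧ (∀ i ∉ R, f i = 0) ∧ g = w f}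

structure WS (w : V9 → G) : Prop where
  add : ∀ f g, w (f + g) = w f * w g
  inj : ∀ f, Ev f → w f = 1 → f = 0
  perm : ∀ σ : Equiv.Perm (Fin 9), ∃ n, ∀ f, Ev f → n * w f * n⁻¹ = w (f ∘ σ)
  aut : ∀ n ∈ 𝐍[EE w Finset.univ], ∃ σ : Equiv.Perm (Fin 9), ∀ f, Ev f → n * w f * n⁻¹ = w (f ∘ σ)
  fr : ∀ L : Subgroup G, EE w Finset.univ ≤ L → ∀ g ∈ 𝐍[L], ∃ c ∈ L, ∃ n ∈ 𝐍[EE w Finset.univ], g = c * n
  sep : ∀ g f f', Ev f → Ev f' → g * w f * g⁻¹ = w f' → wt f = wt f'
  rho : ∃ y, Odd (orderOf y) ∧ (∀ f, Ev f → f 0 = 0 → f 1 = 0 → Fx y (w f)) ∧ ¬ Fx y (w (rt 0 1)) ∧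
    Fx (w (rt 0 1)) (y * w (rt 0 1) * y⁻¹)

variable {α : Type} [Fintype α] [DecidableEq α]

/-- an alternating chart on `C(EE R)`, without coordinates -/
structure Ch0 (w : V9 → G) (R : Finset (Fin 9)) (K : Subgroup G) (π : K →* alternatingGroup α) : Prop where
  card : R.card = 4
  le : K ≤ 𝐂[EE w R]
  nrm : 𝐂[EE w R] ≤ 𝐍[π.ker.map K.subtype]
  dec : ∀ g ∈ 𝐂[EE w R], ∃ f, Ev f ∧ g * w f ∈ K
  mo : ∀ g ∈ 𝐂[EE w R], Odd (orderOf g) → g ∈ K
  mem : ∀ f, Ev f → (∀ i ∈ R, f i = 0) → w f ∈ K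
  surj : Function.Surjective π
  odd : Odd (Nat.card π.ker)
  lo : 10 ≤ Fintype.card α
  hi : Fintype.card α ≤ 11

/-- an alternating chart: `w f` acts as the product of the transpositions `(e i false, e i true)`, `f i = 1` -/
structure Ch (w : V9 → G) (R : Finset (Fin 9)) (K : Subgroup G) (π : K →* alternatingGroup α) (e : Fin 9 → Bool → α) : Prop
    extends Ch0 w R K π where
  einj : ∀ i ∉ R, ∀ j ∉ R, ∀ a b, e i a = e j b → i = j ∧ a = b
  act : ∀ f hf hf', ∀ i ∉ R, ∀ a, (π ⟨w f, mem f hf hf'⟩).1 (e i a) = e i (if f i = 0 then a else !a)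
  out : ∀ f hf hf', ∀ p, (∀ i ∉ R, ∀ a, e i a ≠ p) → (π ⟨w f, mem f hf hf'⟩).1 p = p
  sub : ∀ p q, (∀ i ∉ R, ∀ a, e i a ≠ p) → (∀ i ∉ R, ∀ a, e i a ≠ q) → p = q

/-- charts exist everywhere -/
def Chs (w : V9 → G) : Prop := ∀ R : Finset (Fin 9), R.card = 4 → ∃ (α : Type) (_ : Fintype α) (_ : DecidableEq α)
  (K : Subgroup G) (π : K →* alternatingGroup α) (e : Fin 9 → Bool → α), Ch w R K π e

/-- faithful charts exist everywhere -/
def Chi (w : V9 → G) : Prop := ∀ R : Finset (Fin 9), R.card = 4 → ∃ (α : Type) (_ : Fintype α) (_ : DecidableEq α)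
  (K : Subgroup G) (π : K →* alternatingGroup α) (e : Fin 9 → Bool → α), Ch w R K π e ∧ Function.Injective π

/-- `H` contains the centralisers of all `EE R` -/
def Big (w : V9 → G) (H : Subgroup G) : Prop := ∀ R : Finset (Fin 9), R.card = 4 → 𝐂[EE w R] ≤ H

/-- `C(b)` normalises `EE R` modulo its core -/
def Nvb [Finite G] (w : V9 → G) : Prop := ∀ R : Finset (Fin 9), R.card = 4 → A16.NV (w (ind R)) (EE w R)

end Cfsg.Agent.K18
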