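import Cfsg.Agent.K18.Def
import Cfsg.Agent.LyS.Alt

/-! The Sylow 2-subgroup `D₈ ≀ 2` of the `A₁₀` on the blocks 2, 3. -/

set_option autoImplicit false
set_option maxRecDepth 100000
set_option synthInstance.maxSize 100000
set_option synthInstance.maxHeartbeats 0
set_option linter.unusedSectionVars false

noncomputable section

namespace Cfsg.Agent.K18

open Subgroup Cfsg.Agent.X32 Cfsg.Agent.X32.TG Cfsg.Agent.Std.PcT Cfsg.Agent.LES Cfsg.Agent.SylT
  Cfsg.Agent.RuT Cfsg.Agent.PLocal Cfsg.Agent.PLocal.Amb Cfsg.Agent.Gold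
open Cfsg.Agent.Y16 (BV x8_ind x8_ext Z4 ZL)
open Cfsg.Agent.AltC (Fx)

def QK : ℕ := 0x12501260129012a05460545054a05490569056a05650566010a01090106010501270124012b012805470544054b0548056b056805670564010b010801070104012d012e01210122054e054d05420541056d056e05610562010e010d01020101012f012c01230120054f054c05430540056f056c05630560010f010c01030100002500260029002a04660465046a04690449044a04450446000a00090006000500270024002b002804670464046b0468044b044804470444000b000800070004002d002e00210022046e046d04620461044d044e04410442000e000d00020001002f002c00230020046f046c04630460044f044c04430440000f000c000300000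

/-- `z1, z2, u1, u2, v1, v2, kt ↦ 48, 192, 17408, 17920, 16, 64, 4096` -/
def kap : W42.K →* M := MonoidHom.mk' (fun k => ⟨l16 QK k.v, l16_lt _ _⟩) fun a b => X32.TG.ext (by
  have h : ∀ a b : W42.K, l16 QK (a * b).v = mu (l16 QK a.v) (l16 QK b.v) := by decide +kernel
  exact h a b)

theorem kap_v (k : W42.K) : (kap k).v = l16 QK k.v := rfl

theorem kap_inj : Function.Injective kap := (injective_iff_map_eq_one kap).2 fun k h =>
  (show ∀ k : W42.K, l16 QK k.v = 0 → k = 1 by decide +kernel) k (congrArg X32.TG.v h)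

theorem kap_t2 (k : W42.K) : LyS.t2 k ↔ tw (kap k) = 1 :=
  (show ∀ k : W42.K, LyS.t2 k ↔ twN (l16 QK k.v) = 1 by decide +kernel) k

theorem kap_gen : kap W42.z1 = e 48 ∧ kap W42.z2 = e 192 ∧ kap W42.u1 = e 17408 ∧ kap W42.u2 = e 17920 ∧ kap W42.v1 = e 16 ∧
    kap W42.v2 = e 64 ∧ kap W42.kt = e 4096 := by
  refine ⟨?_, ?_, ?_, ?_, ?_, ?_, ?_⟩ <;> exact X32.TG.ext (by decide +kernel)

/-- the first four pairs -/
abbrev R0 : Finset (Fin 9) := {0, 1, 2, 3}

end Cfsg.Agent.K18
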