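import Cfsg.Agent.K18.Bas
import Cfsg.Agent.Y16.R7

/-! Elementary abelian subgroups of order `256`. -/

set_option autoImplicit false
set_option maxRecDepth 100000
set_option synthInstance.maxSize 100000
set_option synthInstance.maxHeartbeats 0
set_option linter.unusedSectionVars false

noncomputable section

namespace Cfsg.Agent.K18

open Subgroup Cfsg.Agent.X32 Cfsg.Agent.X32.TG Cfsg.Agent.Std.PcT Cfsg.Agent.LES Cfsg.Agent.SylT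
  Cfsg.Agent.RuT Cfsg.Agent.PLocal Cfsg.Agent.PLocal.Amb Cfsg.Agent.Gold
open Cfsg.Agent.Y16 (BV x8_ind x8_ext Z4 ZL NV)
open Cfsg.Agent.AltC (Fx)

/-- the elementary abelian subgroups of `PQ` -/
def r8L : List (List ℕ) := [[0], [0, 1], [0, 2], [0, 3], [0, 4], [0, 5], [0, 6], [0, 7], [0, 8], [0, 9], [0, 10], [0, 11], [0, 16], [0, 17],
  [0, 18], [0, 19], [0, 24], [0, 25], [0, 26], [0, 27], [0, 32], [0, 35], [0, 36], [0, 39], [0, 56], [0, 59], [0,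
  61], [0, 62], [0, 64], [0, 65], [0, 66], [0, 67], [0, 68], [0, 69], [0, 70], [0, 71], [0, 76], [0, 77], [0, 78],
  [0, 79], [0, 80], [0, 81], [0, 82], [0, 83], [0, 1, 2, 3], [0, 1, 4, 5], [0, 1, 6, 7], [0, 1, 8, 9], [0, 1, 10,
  11], [0, 1, 16, 17], [0, 1, 18, 19], [0, 1, 24, 25], [0, 1, 26, 27], [0, 1, 64, 65], [0, 1, 66, 67], [0, 1, 68,
  69], [0, 1, 70, 71], [0, 1, 76, 77], [0, 1, 78, 79], [0, 1, 80, 81], [0, 1, 82, 83], [0, 2, 4, 6], [0, 2, 5, 7],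
  [0, 2, 8, 10], [0, 2, 9, 11], [0, 2, 16, 18], [0, 2, 17, 19], [0, 2, 24, 26], [0, 2, 25, 27], [0, 2, 64, 66], [0,
  2, 65, 67], [0, 2, 68, 70], [0, 2, 69, 71], [0, 2, 76, 78], [0, 2, 77, 79], [0, 2, 80, 82], [0, 2, 81, 83], [0,
  3, 4, 7], [0, 3, 5, 6], [0, 3, 8, 11], [0, 3, 9, 10], [0, 3, 16, 19], [0, 3, 17, 18], [0, 3, 24, 27], [0, 3, 25,
  26], [0, 3, 32, 35], [0, 3, 36, 39], [0, 3, 56, 59], [0, 3, 61, 62], [0, 3, 64, 67], [0, 3, 65, 66], [0, 3, 68,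
  71], [0, 3, 69, 70], [0, 3, 76, 79], [0, 3, 77, 78], [0, 3, 80, 83], [0, 3, 81, 82], [0, 4, 32, 36], [0, 4, 35,
  39], [0, 4, 64, 68], [0, 4, 65, 69], [0, 4, 66, 70], [0, 4, 67, 71], [0, 5, 56, 61], [0, 5, 59, 62], [0, 5, 64,
  69], [0, 5, 65, 68], [0, 5, 66, 71], [0, 5, 67, 70], [0, 6, 56, 62], [0, 6, 59, 61], [0, 6, 64, 70], [0, 6, 65,
  71], [0, 6, 66, 68], [0, 6, 67, 69], [0, 7, 32, 39], [0, 7, 35, 36], [0, 7, 64, 71], [0, 7, 65, 70], [0, 7, 66,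
  69], [0, 7, 67, 68], [0, 8, 16, 24], [0, 8, 17, 25], [0, 8, 18, 26], [0, 8, 19, 27], [0, 8, 68, 76], [0, 8, 69,
  77], [0, 8, 70, 78], [0, 8, 71, 79], [0, 9, 16, 25], [0, 9, 17, 24], [0, 9, 18, 27], [0, 9, 19, 26], [0, 9, 68,
  77], [0, 9, 69, 76], [0, 9, 70, 79], [0, 9, 71, 78], [0, 10, 16, 26], [0, 10, 17, 27], [0, 10, 18, 24], [0, 10,
  19, 25], [0, 10, 68, 78], [0, 10, 69, 79], [0, 10, 70, 76], [0, 10, 71, 77], [0, 11, 16, 27], [0, 11, 17, 26],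
  [0, 11, 18, 25], [0, 11, 19, 24], [0, 11, 68, 79], [0, 11, 69, 78], [0, 11, 70, 77], [0, 11, 71, 76], [0, 16, 64,
  80], [0, 16, 65, 81], [0, 16, 66, 82], [0, 16, 67, 83], [0, 17, 64, 81], [0, 17, 65, 80], [0, 17, 66, 83], [0,
  17, 67, 82], [0, 18, 64, 82], [0, 18, 65, 83], [0, 18, 66, 80], [0, 18, 67, 81], [0, 19, 64, 83], [0, 19, 65,
  82], [0, 19, 66, 81], [0, 19, 67, 80], [0, 24, 32, 56], [0, 24, 35, 59], [0, 25, 36, 62], [0, 25, 39, 61], [0,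
  26, 36, 61], [0, 26, 39, 62], [0, 27, 32, 59], [0, 27, 35, 56], [0, 1, 2, 3, 4, 5, 6, 7], [0, 1, 2, 3, 8, 9, 10,
  11], [0, 1, 2, 3, 16, 17, 18, 19], [0, 1, 2, 3, 24, 25, 26, 27], [0, 1, 2, 3, 64, 65, 66, 67], [0, 1, 2, 3, 68,
  69, 70, 71], [0, 1, 2, 3, 76, 77, 78, 79], [0, 1, 2, 3, 80, 81, 82, 83], [0, 1, 4, 5, 64, 65, 68, 69], [0, 1, 4,
  5, 66, 67, 70, 71], [0, 1, 6, 7, 64, 65, 70, 71], [0, 1, 6, 7, 66, 67, 68, 69], [0, 1, 8, 9, 16, 17, 24, 25], [0,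
  1, 8, 9, 18, 19, 26, 27], [0, 1, 8, 9, 68, 69, 76, 77], [0, 1, 8, 9, 70, 71, 78, 79], [0, 1, 10, 11, 16, 17, 26,
  27], [0, 1, 10, 11, 18, 19, 24, 25], [0, 1, 10, 11, 68, 69, 78, 79], [0, 1, 10, 11, 70, 71, 76, 77], [0, 1, 16,
  17, 64, 65, 80, 81], [0, 1, 16, 17, 66, 67, 82, 83], [0, 1, 18, 19, 64, 65, 82, 83], [0, 1, 18, 19, 66, 67, 80,
  81], [0, 2, 4, 6, 64, 66, 68, 70], [0, 2, 4, 6, 65, 67, 69, 71], [0, 2, 5, 7, 64, 66, 69, 71], [0, 2, 5, 7, 65,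
  67, 68, 70], [0, 2, 8, 10, 16, 18, 24, 26], [0, 2, 8, 10, 17, 19, 25, 27], [0, 2, 8, 10, 68, 70, 76, 78], [0, 2,
  8, 10, 69, 71, 77, 79], [0, 2, 9, 11, 16, 18, 25, 27], [0, 2, 9, 11, 17, 19, 24, 26], [0, 2, 9, 11, 68, 70, 77,
  79], [0, 2, 9, 11, 69, 71, 76, 78], [0, 2, 16, 18, 64, 66, 80, 82], [0, 2, 16, 18, 65, 67, 81, 83], [0, 2, 17,
  19, 64, 66, 81, 83], [0, 2, 17, 19, 65, 67, 80, 82], [0, 3, 4, 7, 32, 35, 36, 39], [0, 3, 4, 7, 64, 67, 68, 71],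
  [0, 3, 4, 7, 65, 66, 69, 70], [0, 3, 5, 6, 56, 59, 61, 62], [0, 3, 5, 6, 64, 67, 69, 70], [0, 3, 5, 6, 65, 66,
  68, 71], [0, 3, 8, 11, 16, 19, 24, 27], [0, 3, 8, 11, 17, 18, 25, 26], [0, 3, 8, 11, 68, 71, 76, 79], [0, 3, 8,
  11, 69, 70, 77, 78], [0, 3, 9, 10, 16, 19, 25, 26], [0, 3, 9, 10, 17, 18, 24, 27], [0, 3, 9, 10, 68, 71, 77, 78],
  [0, 3, 9, 10, 69, 70, 76, 79], [0, 3, 16, 19, 64, 67, 80, 83], [0, 3, 16, 19, 65, 66, 81, 82], [0, 3, 17, 18, 64,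
  67, 81, 82], [0, 3, 17, 18, 65, 66, 80, 83], [0, 3, 24, 27, 32, 35, 56, 59], [0, 3, 25, 26, 36, 39, 61, 62], [0,
  1, 2, 3, 4, 5, 6, 7, 64, 65, 66, 67, 68, 69, 70, 71], [0, 1, 2, 3, 8, 9, 10, 11, 16, 17, 18, 19, 24, 25, 26, 27],
  [0, 1, 2, 3, 8, 9, 10, 11, 68, 69, 70, 71, 76, 77, 78, 79], [0, 1, 2, 3, 16, 17, 18, 19, 64, 65, 66, 67, 80, 81,
  82, 83]]

theorem r8_list {H : Subgroup PQ} (sq : ∀ x ∈ H, x * x = 1) : ∃ l ∈ r8L, ∀ x : PQ, x ∈ H ↔ x ∈ es l := by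
  have c : ∀ l ∈ r8L, ∀ p : PQ, p * p = 1 → (∀ s ∈ (es l : List PQ), Commute p s) → p ∈ es l ∨
      ∃ l' ∈ r8L, l.length < l'.length ∧ ∀ s ∈ (es l' : List PQ), s ∈ es l ∨ p * s ∈ es l :=
    BD.of (by decide +kernel)
  obtain ⟨l, ⟨h1, h2⟩, h3⟩ := Set.exists_max_image {l | l ∈ r8L ∧ ∀ x ∈ (es l : List PQ), x ∈ H} List.length
    (r8L.finite_toSet.subset fun _ h => h.1) ⟨[0], List.mem_cons_self, fun x hx => by
      rw [show x = 1 from List.mem_singleton.1 hx]; exact H.one_mem⟩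
  refine ⟨l, h1, fun x => ⟨fun hx => (c l h1 x (sq x hx) fun s hs => ?_).resolve_right ?_, h2 x⟩⟩
  · have i := fun {y} hy => inv_eq_of_mul_eq_one_right (sq y hy)
    exact (i (H.mul_mem hx (h2 s hs))).symm.trans (by rw [mul_inv_rev, i hx, i (h2 s hs)])
  · rintro ⟨l', a, b, d⟩
    exact (h3 l' ⟨a, fun s hs => (d s hs).elim (h2 s) fun h => (H.mul_mem_cancel_left hx).1 (h2 _ h)⟩).not_gt b

/-- the fixed vectors -/
abbrev r8C (l : List ℕ) (v : X8) : Prop := ∀ s ∈ (es l : List PQ), act s v = v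

theorem r8_key : ∀ l ∈ r8L, Nat.card {p : PQ // p ∈ es l} * Nat.card {v // r8C l v} < 256 ∨
    Nat.card {p : PQ // p ∈ es l} * Nat.card {v // r8C l v} = 256 ∧
      (∀ p ∈ (es l : List PQ), p ∈ BQ) ∧ ∀ z ∈ Z4, r8C l z := BD.of (by decide +kernel)

theorem r8_main {E : Subgroup M} (sq : ∀ x ∈ E, x * x = 1) : ∃ l ∈ r8L, (∀ p : PQ, p ∈ es l ↔ ∃ x ∈ E, pr x = p) ∧
    Nat.card E = Nat.card {p : PQ // p ∈ es l} * Nat.card ↥(E ⊓ nu.range) ∧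
    Nat.card ↥(E ⊓ nu.range) ≤ Nat.card {v // r8C l v} ∧
    (Nat.card ↥(E ⊓ nu.range) = Nat.card {v // r8C l v} → ∀ v, r8C l v → nu v ∈ E) := by
  obtain ⟨l, h1, h2⟩ := r8_list (H := E.map pr) (by rintro _ ⟨x, hx, rfl⟩; rw [← map_mul, sq x hx, map_one])
  have i := fun {y} hy => inv_eq_of_mul_eq_one_right (sq y hy)
  have h3 : ∀ v, nu v ∈ E → r8C l v := fun v hv s hs => by
    obtain ⟨x, hx, rfl⟩ := (h2 s).2 hs
    refine nu_inj ((Eq.symm (cg_nu x v)).trans (mul_inv_eq_iff_eq_mul.2 ?_))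
    exact (i (E.mul_mem hx hv)).symm.trans (by rw [mul_inv_rev, i hx, i hv])
  have h4 : ∀ x : ↥(E ⊓ nu.range), nu (lv x) = x := fun ⟨_, _, v, rfl⟩ => by rw [lv_nu]
  let f : ↥(E ⊓ nu.range) → {v // r8C l v} := fun x => ⟨lv x, h3 _ (by rw [h4]; exact x.2.1)⟩
  have fi : Function.Injective f := fun x y h => Subtype.ext (by
    rw [← h4 x, ← h4 y, show lv x = lv y from congrArg Subtype.val h])
  refine ⟨l, h1, fun p => (h2 p).symm, ?_, Nat.card_le_card_of_injective f fi, fun h v hv => ?_⟩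
  · rw [← Nat.card_congr (Equiv.subtypeEquivRight h2), ← relIndex_ker, show nu.range = pr.ker from
      ext fun _ => mem_nu, inf_comm, ← Nat.card_congr (subgroupOfEquivOfLe (inf_le_right (a := pr.ker))).toEquiv,
      inf_subgroupOf_right, mul_comm, relIndex, card_mul_index]
  · obtain ⟨x, hx⟩ := ((Nat.bijective_iff_injective_and_card f).2 ⟨fi, h⟩).2 ⟨v, hv⟩
    rw [← show lv x = v from congrArg Subtype.val hx, h4]; exact x.2.1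

theorem cls8 {E : Subgroup M} (sq : ∀ x ∈ E, x * x = 1) (h : Nat.card E = 256) :
    (∀ x ∈ E, pr x ∈ BQ) ∧ ∀ z ∈ Z4, nu z ∈ E := by
  obtain ⟨l, h1, h2, h3, h4, h6⟩ := r8_main sq
  have h5 := Nat.mul_le_mul_left (Nat.card {p : PQ // p ∈ es l}) h4
  obtain c | ⟨c, c1, c2⟩ := r8_key l h1
  · omega
  have h7 : Nat.card ↥(E ⊓ nu.range) = Nat.card {v // r8C l v} :=
    Nat.eq_of_mul_eq_mul_left (Nat.pos_of_ne_zero fun a => by simp [a] at c) (h3.symm.trans (h.trans c.symm))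
  exact ⟨fun x hx => c1 _ ((h2 _).2 ⟨x, hx, rfl⟩), fun z hz => h6 h7 z (c2 z hz)⟩

theorem r8_chk : ∀ u : M, u * u = 1 → (∀ g ∈ (es [12288, 16385, 6144, 17424] : List M),
    Lx (g * u * g⁻¹) fun w => u * w = w * u) → pr u = 1 ∨ pw u = 1 := BD.of (by decide +kernel)

theorem nrm8 {E : Subgroup M} (sq : ∀ x ∈ E, x * x = 1) (h : Nat.card E = 256) (hn : E.Normal) :
    E = nu.range ∨ E = nw.range := by
  have i := fun {y} hy => inv_eq_of_mul_eq_one_right (sq y hy)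
  have k : ∀ u ∈ E, pr u = 1 ∨ pw u = 1 := fun u hu => r8_chk u (sq u hu) fun g _ => by
    have hw := hn.conj_mem u hu g
    exact (i (E.mul_mem hu hw)).symm.trans (by rw [mul_inv_rev, i hu, i hw])
  have c : ∀ ν : X8 →* M, Function.Injective ν → E ≤ ν.range → E = ν.range := fun ν a b =>
    eq_of_le_of_card_ge b (by rw [← Nat.card_congr (MonoidHom.ofInjective a).toEquiv, h, TG.card]; rfl)
  by_cases a : ∀ u ∈ E, pr u = 1
  · exact .inl (c _ nu_inj fun u hu => mem_nu.2 (a u hu))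
  push Not at a
  obtain ⟨u, hu, a⟩ := a
  refine .inr (c _ nw_inj fun w hw => mem_nw.2 ((k w hw).elim (fun b => ?_) id))
  have := (k _ (E.mul_mem hu hw)).resolve_left (by rwa [map_mul, b, mul_one])
  rwa [map_mul, (k u hu).resolve_left a, one_mul] at this

end Cfsg.Agent.K18
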